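import Cfsg.Agent.H399.IF.Kern
import Cfsg.Agent.H992.Stages.Mathieu
import Cfsg.Agent.KFacts.M24Two.Orders
import Cfsg.Agent.H715.Fpr.MathData
import Cfsg.Agent.H701.Tall.SpOut
import Cfsg.Agent.CoThreeStd.AutInv

/-!
# S5719: the rows `M₁₁`, `M₂₃`, `M₂₄`, and the even part of `M₁₂`, `M₂₂` (helper399)
-/

set_option autoImplicit false
set_option linter.unusedSectionVars false
set_option maxRecDepth 100000

namespace Cfsg.Agent.H399.IF

open Cfsg Subgroup Cfsg.Agent.H209.Fxy
open Cfsg.Agent.SporadicA.GolayBase Cfsg.Agent.SporadicA.GolayPerm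
open Cfsg.Agent.SporadicStructure.M24El Cfsg.Agent.H729.Trans Cfsg.Agent.H729.MData Cfsg.Agent.H729.Count
open Cfsg.Agent.H729.M24Deg
open Cfsg.Agent.J4.M24InvolData (P1 P2)

/-! ### data -/

def L24 : List (ℕ × ℕ) := [(631804238821845392539950231629472819, 548157083432836142088068227718496715),
  (963540565808607092481030094147595440, 469300302716809791855686953005589126),
  (395110219574216482999455234528427670, 501991564337327870347083692772609257),
  (526492318992185697138850970532562103, 16208498822217443091735612320003253),
  (543100142937895403103696907527597296, 469098606409518304407716539759056943),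
  (921723212404704119483519544984781451, 487571626733068109381662710095623221),
  (444717525728881095206020387265823307, 457351343996622360779469167678103686),
  (800524294519466749336781300433008277, 665470579794073844001518536739563980),
  (810859917799830827997813147139431569, 99507665462890889576747519413756134),
  (270898680322966067215270070745434240, 515585846900294899130667509458634848),
  (677702063694635888695975985207133335, 15056780077401580954777706783251080),
  (926404574250671286796308505651458634, 902414442555227975820404310298658912),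
  (436946489586856251216124308341540311, 680274124295008182903424295857413585),
  (506864690543474026149923125444315264, 817201502090435344875935532215568608),
  (926022805942510067794878898775361664, 687174915800246339362530820749724224),
  (884400528371546381651393898235893896, 261811109818193208726625991672672362),
  (363032913613287126955653975080840240, 445486665301803025165332720337999919),
  (12333298373751445159548364725009558, 668150352326555583330986689765155462),
  (693543967511334772693246336785689164, 402913124006646663657704388529625128),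
  (548686858628659975065873192928620176, 677004538936407212359133316033091624),
  (650823989204533919526297832784347723, 894867004375395725657181115006566038),
  (527712889486393459306869795972585576, 901638480685107667386536343103379688),
  (673256052780817250114458463524535894, 934875087372498882854687991536945792),
  (687174915800246339362530820749724224, 938936378699875468944005061911153280),
  (384864626719956265631886368483551404, 433033508441542036299000213681626577),
  (479372534451540062099206142790554861, 924312079277833731162043589362073771),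
  (686682773991285385319070571554094678, 112330720024601344771444539557924489),
  (515718992296027041595905292619028648, 382535640606505879632408445118459946),
  (104213164676684250710718664388221160, 647988350145146825302612026283115703),
  (637843025462209832407766088333872265, 501526360080664241230754459925237385),
  (925180416199767787119757230907935849, 570632289639515417131978846275406400),
  (880466219999300393983965689930123296, 636753141821994779242401265877452832),
  (980457589604475781992772760901397616, 377135328969059670913617891942257901),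
  (344864825128285316853524351624129712, 880546220611004531872425047884015187),
  (983073780265001179663189119518089670, 108658261977244726953729214620713419),
  (634316579958001901914280840559469747, 396424772020026713052404878484788461),
  (444283656212883675891991798526035543, 29270532767623528206574459588552147),
  (958448045664489190474962341376152813, 955878885570929269001407293321953867),
  (926831649965982341777345280625691689, 914254389616253241068441392031773877),
  (894867004375395725657181115006566038, 935391421020226201929297700426123840),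
  (277186148084107770935238333033809952, 395530282331647008296440144561899744),
  (499330546607303931876054462818820678, 681129704253312872860968337903409807),
  (972344446256109436392261177025435688, 930133564096309525677551443973395917),
  (266188104318705204569190962079843511, 345978698815365239238711496166986893),
  (29351424727587635511307819194920176, 527487487829039870360813435900011667),
  (395491861629404492017478390373196006, 631725494705995655982370156707892809),
  (418855215288074736900837768581718470, 626541722298627010824559663807348779)]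

def c23t : ℕ := 984533793844585853448292408907836992

def L23 : List (ℕ × ℕ) := [(982044605058468046099083396815034724, 961212043338450629558996664532178348),
  (960778584107133003210084651748526698, 968419901653592936985818915223848116),
  (955601038637497531638388602297170152, 982084858886114885331312681037248100),
  (982206239280199999891351012391755172, 966619172969056326727017725536999724),
  (955517039498777750731892937388702916, 971816498172670135204304915018556502),
  (969230965772672330641760525352517716, 956239931603238974401267508753647722),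
  (966039138562147756979401403490487722, 956245316487667305748470283997910540),
  (968810309047307504383553557460784644, 971580703666488080901914133686048116),
  (961437614837979438453626168305700340, 966497629157365982957627373466847852),
  (961234477403898774015961546335914228, 961427234711920781219725279238718986),
  (966550726097965294452215268380185654, 966497958584513870170317745008445548),
  (971433989719077643883389218871021060, 956044904168192523731455177130427460),
  (968472959223504903149276896084735016, 960829303731140621534603156281363508),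
  (965970099875673083154165932587334124, 965853677850661587626011376257907956),
  (956083219789549953798194365062237228, 966632399100526616823413082861847990),
  (981643952035923899742046238563371210, 966647341811457789735667619498397162)]

def B22 : List ℕ := [984818244535754528103549039458486304, 984047379121870168806603060567921824, 984047333458777307627848289189221952, 984817752917645425279301981516892352, 984533793844585853448292408907836992, 984412421473907193312266097351112896, 984412476963149185498582240580909088, 984534275636545816050595665229032608, 984412575143944293541892092806347328, 984534155869171923206568525183429824, 984534132179515061401576844139211808, 984412106118240619439132328872491168, 984047037291180602505319756197188640, 984818070671820887514443681551124640, 984818104342369251485136392171194944, 984047496335992792871116961839895744]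

def B24 : List ℕ := [984818244535754528103549039458486304, 839072233265124778766700075840278706, 527856059999788242033067946458321075, 881043257028383132227834193400399913, 965346712459683604282855048361378898, 853351468622823073367187007399367808, 508385671794893924405112030513697929, 895321348544065433640281511237354579]

def c12A : ℕ := 807624915598249115347046449124282633

def B12A : List ℕ := [984818244535754528103549039458486304, 645451732999245387191158199285186946, 901810639927700045894952958619290176, 313451147739568761154597711319859618, 844224223069351983599043595095942340, 807624915598249115347046449124282633, 470741068013378752837885104277038596, 226645360666437230727054897088335977]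

def c12B : ℕ := 892735891774019106164213520671967619

def B12B : List ℕ := [984818244535754528103549039458486304, 901805946905781876259537846647399459, 970522743141644479449838263908443331, 887543800568078526976238466843642048, 892735891774019106164213520671967619, 975715230488385824032026316526167424, 895315753051310065218259353346352704, 978327654540481951645521957733009987]


/-! ### general -/

theorem na_of {G : Type*} [Group G] [Finite G] [IsSimpleGroup G] {N : ℕ} (hN : Nat.card G = N) (hp : ¬ N.Prime) :
    ∃ a b : G, a * b ≠ b * a := by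
  by_contra hcon
  push Not at hcon
  apply hp
  rw [← hN]
  let inst : CommGroup G := { ‹Group G› with mul_comm := hcon }
  exact @IsSimpleGroup.prime_card G inst ‹_›

theorem sq_of {G : Type*} [Group G] {x : G} (hx : orderOf x = 2) : x * x = 1 ∧ x ≠ 1 := by
  constructor
  · rw [← pow_two, ← hx, pow_orderOf_eq_one]
  · rintro rfl
    rw [orderOf_one] at hx
    norm_num at hx

theorem order_of {G : Type*} [Group G] {x : G} (h1 : x * x = 1) (h2 : x ≠ 1) : orderOf x = 2 :=
  have : Fact (Nat.Prime 2) := ⟨Nat.prime_two⟩
  orderOf_eq_prime (by rw [pow_two, h1]) h2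

/-! ### `M₁₁` -/

theorem kill_m11 : Kill Spor.M11 := by
  intro A Γ h
  have hs : IsSimpleGroup Spor.M11 := H715.Fpr.MathData.simple11
  have hN : Nat.card Spor.M11 = 7920 := H715.Fpr.MathData.card11
  have hfin : Finite Spor.M11 := Nat.finite_of_card_ne_zero (by rw [hN]; norm_num)
  have hna := na_of hN (by norm_num)
  obtain ⟨t, ht, h2, h3⟩ := exists_three h hna (H701.Tall.out_m11 ⟨MulEquiv.refl _⟩)
  have h5 := five h hna ht h2
  rw [index_eq hN (SporadicA.M11Facts.card_centralizer_two H715.Fpr.MathData.isM11 h2) (m := 165) (by norm_num)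
    (by norm_num)] at h5
  have h6 : 3 ^ 5 ≤ ff A t ^ 5 := Nat.pow_le_pow_left h3 5
  omega

/-- **`M₁₁`.** -/
theorem row_m11 : Row fun T => Spor.IsoM11 T := by
  rintro T _ _ _ - ⟨e⟩ A Γ hA
  exact Kill.congr e.symm kill_m11 A Γ hA

/-! ### `M₂₃` -/

/-- membership test -/
def me23 (c : ℕ) : Bool := Nat.beq (papp c 23) 23

theorem emb23 : Emb H729.PairMathieu.inc23 me23 where
  inj := H729.PairMathieu.inc23_injective
  ex _ hc hm := H715.Fpr.MathData.exists_el23 hc (Nat.eq_of_beq_eq_true hm)

theorem L23_ok : L23.all (okPair me23 7 c23t) = true := by decide +kernel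
theorem L23_nodup : (L23.map fun xy => pcomp xy.1 xy.2).Nodup := by decide +kernel

open OddHalf.D4.Spor.M2223 OddHalf.D4.Spor.MathieuSyl in
theorem conj23 (s t : Spor.M23) (hs : s * s = 1) (hs1 : s ≠ 1) (ht : t * t = 1) (ht1 : t ≠ 1) : IsConj s t := by
  obtain ⟨g, hg⟩ := OddHalf.D4.Spor.MathieuSyl.one_class T_le23 idx23 M22_le_M23 s hs hs1
  obtain ⟨k, hk⟩ := OddHalf.D4.Spor.MathieuSyl.one_class T_le23 idx23 M22_le_M23 t ht ht1
  exact (isConj_iff.2 ⟨g, hg⟩).symm.trans (isConj_iff.2 ⟨k, hk⟩)

theorem kill_m23 : Kill Spor.M23 := by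
  intro A Γ h
  have hs : IsSimpleGroup Spor.M23 := H715.Fpr.MathData.simple23
  have hN : Nat.card Spor.M23 = 10200960 := H715.Fpr.MathData.card23
  have hfin : Finite Spor.M23 := Nat.finite_of_card_ne_zero (by rw [hN]; norm_num)
  have hna := na_of hN (by norm_num)
  obtain ⟨t, ht, h2, h3⟩ := exists_three h hna (H701.Tall.out_m23 ⟨MulEquiv.refl _⟩)
  have hidx := index_eq hN (H992.Stages.card_cent_m23 h2) (m := 3795) (by norm_num) (by norm_num)
  have h5 := five h hna ht h2
  have h6 := small h hna ht h2
  have h7 := cnt h hna ht h2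
  have h8 := h.big
  rw [hidx] at h5 h7
  have hf : ff A t < 6 := by
    by_contra hcon
    have h9 : 6 ^ 5 ≤ ff A t ^ 5 := Nat.pow_le_pow_left (not_lt.1 hcon) 5
    omega
  have hok : ok c23t = true := by decide +kernel
  obtain ⟨t0, ht0⟩ := emb23.ex c23t hok (by decide +kernel)
  have h00 : t0 * t0 = 1 := by
    apply emb23.inj
    rw [map_mul, map_one, ht0, ← el_pcomp hok hok,
      Nat.eq_of_beq_eq_true (show Nat.beq (pcomp c23t c23t) idP = true by decide +kernel), el_idP]
  have h01 : t0 ≠ 1 := ne_one_of hok ht0 (by decide +kernel) (by decide +kernel)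
  obtain ⟨q1, q2⟩ := sq_of h2
  have hk := count_of emb23 ht0 hok (p := 7) (by norm_num) L23_ok L23_nodup
    (fun z hz hz1 _ => conj23 _ _ h00 h01 hz hz1) h hna ht h2 (conj23 _ _ h00 h01 q1 q2) (by omega)
  have hl : L23.length = 16 := rfl
  rw [hl] at hk
  have h9 : A.index * 16 ≤ A.index * kk A t := Nat.mul_le_mul_left _ hk
  have h10 : ff A t = 3 ∨ ff A t = 4 ∨ ff A t = 5 := by omega
  rcases h10 with h10 | h10 | h10 <;> rw [h10] at h6 h7 <;> norm_num at h6 h7 <;> omega

/-- **`M₂₃`.** -/
theorem row_m23 : Row fun T => Spor.IsoM23 T := by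
  rintro T _ _ _ - ⟨e⟩ A Γ hA
  exact Kill.congr e.symm kill_m23 A Γ hA

/-! ### `M₂₄` -/

/-- membership test -/
def me24 (_c : ℕ) : Bool := true

theorem emb24 : Emb (MonoidHom.id M24) me24 where
  inj := Function.injective_id
  ex _ _ _ := ⟨_, rfl⟩

theorem okP1 : ok P1 = true := by decide +kernel
theorem okP2 : ok P2 = true := by decide +kernel
theorem L24_ok : L24.all (okPair me24 7 P1) = true := by decide +kernel
theorem L24_nodup : (L24.map fun xy => pcomp xy.1 xy.2).Nodup := by decide +kernel
theorem B24_ok : okElab me24 P2 B24 = true := by decide +kernel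
theorem B24_nodup : B24.Nodup := by decide +kernel
theorem B24_fix : (B24.all fun P => (List.range 24).any fun i => Nat.beq (papp P i) i) = true := by decide +kernel

theorem conj_z {z : M24} (h1 : z * z = 1) (h2 : z ≠ 1) (h3 : ∃ i < 24, im z i = i) : IsConj (el P1) z := by
  obtain ⟨i, hi, h3⟩ := h3
  obtain ⟨g, hg⟩ := KFacts.M24Two.Count.conj_z_of_fix h1 h2 (p := pt i) (by
    apply idx_injective
    rw [idx_pt hi]
    exact h3)
  exact (isConj_iff.2 ⟨g, hg⟩).symm

/-- an involution with a fixed point in `A` -/
theorem no_z {A : Subgroup M24} {Γ : Subgroup (MulAut M24)} (h : IF A Γ) {t : M24} (ht : t ∈ A) (h2 : orderOf t = 2)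
    (hc : IsConj (el P1) t) : False := by
  have hs : IsSimpleGroup M24 := H715.Fpr.MathData.simple24
  have hN : Nat.card M24 = 244823040 := H715.Fpr.MathData.card24
  have hfin : Finite M24 := Nat.finite_of_card_ne_zero (by rw [hN]; norm_num)
  have hna := na_of hN (by norm_num)
  have hcc : Nat.card (centralizer ({t} : Set M24)) = 21504 := by
    exact (H672.OZ.cent_eq_of_conj hc).symm.trans KFacts.M24Two.Orders.card_centralizer_z
  have hidx := index_eq hN hcc (m := 11385) (by norm_num) (by norm_num)
  have h5 := five h hna ht h2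
  have h6 := small h hna ht h2
  have h7 := cnt h hna ht h2
  have h8 := h.big
  rw [hidx] at h5 h7
  have hf : ff A t < 7 := by
    by_contra hcon
    have h9 : 7 ^ 5 ≤ ff A t ^ 5 := Nat.pow_le_pow_left (not_lt.1 hcon) 5
    omega
  have hk := count_of emb24 (t0 := el P1) rfl okP1 (p := 7) (by norm_num) L24_ok L24_nodup
    (fun z hz hz1 hz2 => conj_z hz hz1 hz2) h hna ht h2 hc hf
  have hl : L24.length = 47 := rfl
  rw [hl] at hk
  have h9 : A.index * 47 ≤ A.index * kk A t := Nat.mul_le_mul_left _ hk
  have h10 : ff A t = 0 ∨ ff A t = 1 ∨ ff A t = 2 ∨ ff A t = 3 ∨ ff A t = 4 ∨ ff A t = 5 ∨ ff A t = 6 := by omega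
  rcases h10 with h10 | h10 | h10 | h10 | h10 | h10 | h10 <;> rw [h10] at h6 h7 <;> norm_num at h6 h7 <;> omega

theorem kill_m24 : Kill M24 := by
  intro A Γ h
  have hs : IsSimpleGroup M24 := H715.Fpr.MathData.simple24
  have hN : Nat.card M24 = 244823040 := H715.Fpr.MathData.card24
  have hfin : Finite M24 := Nat.finite_of_card_ne_zero (by rw [hN]; norm_num)
  have hna := na_of hN (by norm_num)
  obtain ⟨t, ht, h2, h3⟩ := exists_three h hna (H701.Tall.out_m24 ⟨MulEquiv.refl _⟩)
  obtain ⟨q1, q2⟩ := sq_of h2
  rcases KFacts.M24Two.Count.conj_or t q1 q2 with ⟨g, hg⟩ | ⟨g, hg⟩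
  · exact no_z h ht h2 (isConj_iff.2 ⟨g, hg⟩).symm
  · have hcc : Nat.card (centralizer ({t} : Set M24)) = 7680 := by
      exact (H672.OZ.cent_eq_of_conj (isConj_iff.2 ⟨g, hg⟩)).trans KFacts.M24Two.Orders.card_centralizer_w
    have hidx := index_eq hN hcc (m := 31878) (by norm_num) (by norm_num)
    have h5 := five h hna ht h2
    rw [hidx] at h5
    have hf : ff A t < 8 := by
      by_contra hcon
      have h9 : 8 ^ 5 ≤ ff A t ^ 5 := Nat.pow_le_pow_left (not_lt.1 hcon) 5
      omega
    have hg' : g⁻¹ * el P2 * (g⁻¹)⁻¹ = t := by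
      have hg2 : g * t * g⁻¹ = el P2 := hg
      rw [← hg2]
      group
    obtain ⟨r, S, hr, hS, hS2⟩ := elab_of emb24 (t0 := el P2) rfl okP2 B24_ok B24_nodup h hna ht h2 hg'
    have hl : B24.length = 8 := rfl
    rw [hl] at hS
    have hS0 : 0 < S.card := by
      by_contra hcon
      have h9 : S.card = 0 := by omega
      rw [h9] at hS
      omega
    obtain ⟨s, hsS⟩ := Finset.card_pos.1 hS0
    obtain ⟨s1, s2, s3, P, hP, hPs⟩ := hS2 s hsS
    obtain ⟨i, hi, hfix⟩ := List.any_eq_true.1 (List.all_eq_true.1 B24_fix P hP)
    have hokP : ok P = true := by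
      have h9 := B24_ok
      simp only [okElab, Bool.and_eq_true] at h9
      have h10 := List.all_eq_true.1 h9.1 P hP
      simp only [Bool.and_eq_true] at h10
      exact h10.1
    set s' : M24 := (g⁻¹)⁻¹ * s * g⁻¹ with hs'
    have hss' : IsConj s s' := isConj_iff.2 ⟨(g⁻¹)⁻¹, by rw [hs', inv_inv]⟩
    have hs'1 : s' * s' = 1 := by
      rw [hs']
      calc g⁻¹⁻¹ * s * g⁻¹ * (g⁻¹⁻¹ * s * g⁻¹) = g⁻¹⁻¹ * (s * s) * g⁻¹ := by group
        _ = 1 := by rw [s2]; group
    have hs'2 : s' ≠ 1 := by
      intro h9
      apply s3
      calc s = g⁻¹ * s' * g := by rw [hs']; group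
        _ = 1 := by rw [h9]; group
    have hz : IsConj (el P1) s' := conj_z hs'1 hs'2 ⟨i, List.mem_range.1 hi, by
      have h9 := im_el (φ := MonoidHom.id M24) (x := s') hokP hPs (List.mem_range.1 hi)
      have h10 : im s' i = papp P i := h9
      rw [h10]
      exact Nat.eq_of_beq_eq_true hfix⟩
    exact no_z h s1 (order_of s2 s3) (hz.trans hss'.symm)

/-- **`M₂₄`.** -/
theorem row_m24 : Row fun T => Spor.IsoM24 T := by
  rintro T _ _ _ - ⟨e⟩ A Γ hA
  exact Kill.congr e.symm kill_m24 A Γ hA

/-! ### `M₂₂`, even part -/

/-- membership test -/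
def me22 (c : ℕ) : Bool := Nat.beq (papp c 23) 23 && Nat.beq (papp c 0) 0

theorem emb22 : Emb H729.M22Deg.inc me22 where
  inj := H729.M22Deg.inc_injective
  ex c hc hm := by
    simp only [me22, Bool.and_eq_true] at hm
    exact H729.M22Deg.exists_el hc (Nat.eq_of_beq_eq_true hm.1) (Nat.eq_of_beq_eq_true hm.2)

theorem B22_ok : okElab me22 c23t B22 = true := by decide +kernel
theorem B22_nodup : B22.Nodup := by decide +kernel

open OddHalf.D4.Spor.M2223 OddHalf.D4.Spor.MathieuSyl Schreier.SylMTwentyTwo in
theorem conj22 (s t : Spor.M22) (hs : s * s = 1) (hs1 : s ≠ 1) (ht : t * t = 1) (ht1 : t ≠ 1) : IsConj s t := by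
  obtain ⟨g, hg⟩ := OddHalf.D4.Spor.MathieuSyl.one_class T_le idx22 le_rfl s hs hs1
  obtain ⟨k, hk⟩ := OddHalf.D4.Spor.MathieuSyl.one_class T_le idx22 le_rfl t ht ht1
  exact (isConj_iff.2 ⟨g, hg⟩).symm.trans (isConj_iff.2 ⟨k, hk⟩)

theorem killE_m22 : KillE Spor.M22 := by
  rintro A Γ h ⟨t, ht, h2⟩
  have hs : IsSimpleGroup Spor.M22 := H715.Fpr.MathData.simple22
  have hN : Nat.card Spor.M22 = 443520 := H715.Fpr.MathData.card22
  have hfin : Finite Spor.M22 := Nat.finite_of_card_ne_zero (by rw [hN]; norm_num)
  have hna := na_of hN (by norm_num)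
  have hidx := index_eq hN (H992.Stages.card_cent_m22 h2) (m := 1155) (by norm_num) (by norm_num)
  have h5 := five h hna ht h2
  have h6 := small h hna ht h2
  have h7 := cnt h hna ht h2
  have h8 := h.big
  rw [hidx] at h5 h7
  have hf : ff A t < 5 := by
    by_contra hcon
    have h9 : 5 ^ 5 ≤ ff A t ^ 5 := Nat.pow_le_pow_left (not_lt.1 hcon) 5
    omega
  have hok : ok c23t = true := by decide +kernel
  obtain ⟨t0, ht0⟩ := emb22.ex c23t hok (by decide +kernel)
  have h00 : t0 * t0 = 1 := by
    apply emb22.inj
    rw [map_mul, map_one, ht0, ← el_pcomp hok hok,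
      Nat.eq_of_beq_eq_true (show Nat.beq (pcomp c23t c23t) idP = true by decide +kernel), el_idP]
  have h01 : t0 ≠ 1 := ne_one_of hok ht0 (by decide +kernel) (by decide +kernel)
  obtain ⟨q1, q2⟩ := sq_of h2
  obtain ⟨g, hg⟩ := isConj_iff.1 (conj22 _ _ h00 h01 q1 q2)
  obtain ⟨r, S, hr, hS, hS2⟩ := elab_of emb22 ht0 hok B22_ok B22_nodup h hna ht h2 hg
  have hl : B22.length = 16 := rfl
  rw [hl] at hS
  have hk := le_kk A (t := t) S fun s hs => ⟨(hS2 s hs).1, conj22 _ _ q1 q2 (hS2 s hs).2.1 (hS2 s hs).2.2.1⟩
  have h9 : A.index * S.card ≤ A.index * kk A t := Nat.mul_le_mul_left _ hk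
  have h10 : ff A t = 0 ∨ ff A t = 1 ∨ ff A t = 2 ∨ ff A t = 3 ∨ ff A t = 4 := by omega
  have hr5 : r < 5 := by omega
  have hSc : r = 1 ∧ S.card = 15 ∨ r = 2 ∧ S.card = 7 ∨ r = 4 ∧ S.card = 3 := by
    interval_cases r <;> omega
  rcases hSc with ⟨r1, r2⟩ | ⟨r1, r2⟩ | ⟨r1, r2⟩ <;> rw [r2] at h9 <;>
    rcases h10 with h10 | h10 | h10 | h10 | h10 <;> rw [h10] at h6 h7 hr <;> norm_num at h6 h7 <;> omega

/-! ### `M₁₂`, even part -/

/-- membership test -/
def me12 (c : ℕ) : Bool := H729.PairMathieu.dod.all fun i => decide (papp c i ∈ H729.PairMathieu.dod)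

theorem emb12 : Emb H729.PairMathieu.inc12 me12 where
  inj := H729.PairMathieu.inc12_injective
  ex _ hc hm := OZ.exists_el12 hc hm

theorem B12A_ok : okElab me12 c12A B12A = true := by decide +kernel
theorem B12A_nodup : B12A.Nodup := by decide +kernel
theorem B12B_ok : okElab me12 c12B B12B = true := by decide +kernel
theorem B12B_nodup : B12B.Nodup := by decide +kernel
theorem okA : ok c12A = true := by decide +kernel
theorem okB : ok c12B = true := by decide +kernel

theorem conj12 {s t : Spor.M12} (h : CoThreeStd.AutInv.IsA s ∧ CoThreeStd.AutInv.IsA t ∨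
    CoThreeStd.AutInv.IsB s ∧ CoThreeStd.AutInv.IsB t) : IsConj s t := by
  rcases h with ⟨h1, h2⟩ | ⟨h1, h2⟩
  · obtain ⟨m, hm⟩ := h1.exists
    obtain ⟨n, hn⟩ := h2.exists
    have e1 : IsConj s CoThreeStd.MTwelve.y := isConj_iff.2 ⟨m, by rw [← hm]; group⟩
    have e2 : IsConj t CoThreeStd.MTwelve.y := isConj_iff.2 ⟨n, by rw [← hn]; group⟩
    exact e1.trans e2.symm
  · obtain ⟨m, hm⟩ := h1.exists
    obtain ⟨n, hn⟩ := h2.exists
    have e1 : IsConj s (CoThreeStd.MTwelve.p * CoThreeStd.MTwelve.r) := isConj_iff.2 ⟨m, by rw [← hm]; group⟩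
    have e2 : IsConj t (CoThreeStd.MTwelve.p * CoThreeStd.MTwelve.r) := isConj_iff.2 ⟨n, by rw [← hn]; group⟩
    exact e1.trans e2.symm

/-- the two representatives -/
theorem exists_reps : ∃ a b : Spor.M12, H729.PairMathieu.inc12 a = el c12A ∧ H729.PairMathieu.inc12 b = el c12B ∧
    ∀ t : Spor.M12, t * t = 1 → t ≠ 1 → IsConj a t ∨ IsConj b t := by
  obtain ⟨a, ha⟩ := emb12.ex c12A okA (by decide +kernel)
  obtain ⟨b, hb⟩ := emb12.ex c12B okB (by decide +kernel)
  refine ⟨a, b, ha, hb, fun t h1 h2 => ?_⟩
  have sq : ∀ {x : Spor.M12} {c : ℕ}, ok c = true → H729.PairMathieu.inc12 x = el c →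
      Nat.beq (pcomp c c) idP = true → x * x = 1 := by
    intro x c hc hx h
    apply emb12.inj
    rw [map_mul, map_one, hx, ← el_pcomp hc hc, Nat.eq_of_beq_eq_true h, el_idP]
  have a1 := sq okA ha (by decide +kernel)
  have b1 := sq okB hb (by decide +kernel)
  have a2 : a ≠ 1 := ne_one_of okA ha (by decide +kernel) (by decide +kernel)
  have b2 : b ≠ 1 := ne_one_of okB hb (by decide +kernel) (by decide +kernel)
  -- not conjugate: `b` has a fixed point, `a` has none
  have hab : ¬ IsConj a b := by
    intro hc
    obtain ⟨g, hg⟩ := isConj_iff.1 hc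
    have hfix : im (H729.PairMathieu.inc12 b) 4 = 4 := by
      rw [im_el okB hb (by norm_num)]
      decide +kernel
    have hno : ∀ p : GolayPt, (a : Equiv.Perm GolayPt) p ≠ p := by
      intro p hp
      have h3 : im (H729.PairMathieu.inc12 a) (idx p) = idx p := by
        show idx ((a : Equiv.Perm GolayPt) (pt (idx p))) = idx p
        rw [pt_idx, hp]
      rw [im_el okA ha (idx_lt p)] at h3
      have h4 : ∀ i < 24, papp c12A i ≠ i := by decide +kernel
      exact h4 _ (idx_lt p) h3
    have h5 : (b : Equiv.Perm GolayPt) (pt 4) = pt 4 := by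
      apply idx_injective
      rw [idx_pt (by norm_num)]
      exact hfix
    apply hno ((g : Equiv.Perm GolayPt)⁻¹ (pt 4))
    have h6 : (b : Equiv.Perm GolayPt) = (g : Equiv.Perm GolayPt) * a * (g : Equiv.Perm GolayPt)⁻¹ := by
      rw [← hg]
      rfl
    have h7 : (g : Equiv.Perm GolayPt) ((a : Equiv.Perm GolayPt) ((g : Equiv.Perm GolayPt)⁻¹ (pt 4))) = pt 4 := by
      rw [h6] at h5
      exact h5
    have h8 := congrArg (fun p => (g : Equiv.Perm GolayPt)⁻¹ p) h7
    simpa using h8
  rcases CoThreeStd.AutInv.isA_or_isB a1 a2 with hA | hA <;> rcases CoThreeStd.AutInv.isA_or_isB b1 b2 with hB | hB <;>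
    rcases CoThreeStd.AutInv.isA_or_isB h1 h2 with hT | hT
  · exact absurd (conj12 (Or.inl ⟨hA, hB⟩)) hab
  · exact absurd (conj12 (Or.inl ⟨hA, hB⟩)) hab
  · exact Or.inl (conj12 (Or.inl ⟨hA, hT⟩))
  · exact Or.inr (conj12 (Or.inr ⟨hB, hT⟩))
  · exact Or.inr (conj12 (Or.inl ⟨hB, hT⟩))
  · exact Or.inl (conj12 (Or.inr ⟨hA, hT⟩))
  · exact absurd (conj12 (Or.inr ⟨hA, hB⟩)) hab
  · exact absurd (conj12 (Or.inr ⟨hA, hB⟩)) hab

theorem killE_m12 : KillE Spor.M12 := by
  classical
  rintro A Γ h ⟨t, ht, h2⟩
  have hs : IsSimpleGroup Spor.M12 := H715.Fpr.MathData.simple12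
  have hN : Nat.card Spor.M12 = 95040 := H715.Fpr.MathData.card12
  have hfin : Finite Spor.M12 := Nat.finite_of_card_ne_zero (by rw [hN]; norm_num)
  have hna := na_of hN (by norm_num)
  have h8 := h.big
  -- at most one conjugate of every involution, at most three fixed points
  have key : ∀ s ∈ A, orderOf s = 2 → ff A s < 4 ∧ kk A s ≤ 1 := by
    intro s hs h2
    have h5 := five h hna hs h2
    have h6 := small h hna hs h2
    have h7 := cnt h hna hs h2
    have hidx : (centralizer ({s} : Set Spor.M12)).index = 396 ∨ (centralizer ({s} : Set Spor.M12)).index = 495 := by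
      obtain ⟨q1, q2⟩ := sq_of h2
      rcases CoThreeStd.AutInv.isA_or_isB q1 q2 with hc | hc
      · exact Or.inl (index_eq hN hc.2.2 (by norm_num) (by norm_num))
      · exact Or.inr (index_eq hN hc.2.2 (by norm_num) (by norm_num))
    have hf : ff A s < 4 := by
      by_contra hcon
      have h9 : 4 ^ 5 ≤ ff A s ^ 5 := Nat.pow_le_pow_left (not_lt.1 hcon) 5
      omega
    refine ⟨hf, ?_⟩
    by_contra hcon
    rcases Nat.lt_or_ge 2 (kk A s) with h9 | h9
    · have h11 : A.index * 3 ≤ A.index * kk A s := Nat.mul_le_mul_left _ h9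
      have h10 : ff A s = 0 ∨ ff A s = 1 ∨ ff A s = 2 ∨ ff A s = 3 := by omega
      rcases hidx with h12 | h12 <;> rw [h12] at h7 <;>
        rcases h10 with h10 | h10 | h10 | h10 <;> rw [h10] at h7 <;> omega
    · have h11 : kk A s = 2 := by omega
      rw [h11] at h7
      have h10 : ff A s = 0 ∨ ff A s = 1 ∨ ff A s = 2 ∨ ff A s = 3 := by omega
      rcases hidx with h12 | h12 <;> rw [h12] at h7 <;>
        rcases h10 with h10 | h10 | h10 | h10 <;> rw [h10] at h7 <;> omega
  obtain ⟨q1, q2⟩ := sq_of h2
  have hf := (key t ht h2).1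
  have hS : ∃ S : Finset Spor.M12, 3 ≤ S.card ∧ ∀ s ∈ S, s ∈ A ∧ s * s = 1 ∧ s ≠ 1 := by
    obtain ⟨a, b, ha, hb, hab⟩ := exists_reps
    rcases hab t q1 q2 with hc | hc
    · obtain ⟨g, hg⟩ := isConj_iff.1 hc
      obtain ⟨r, S, hr, hS, hS2⟩ := elab_of emb12 ha okA B12A_ok B12A_nodup h hna ht h2 hg
      have hl : B12A.length = 8 := rfl
      rw [hl] at hS
      refine ⟨S, ?_, fun s hs => ⟨(hS2 s hs).1, (hS2 s hs).2.1, (hS2 s hs).2.2.1⟩⟩
      have hr5 : r < 4 := by omega
      interval_cases r <;> omega
    · obtain ⟨g, hg⟩ := isConj_iff.1 hc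
      obtain ⟨r, S, hr, hS, hS2⟩ := elab_of emb12 hb okB B12B_ok B12B_nodup h hna ht h2 hg
      have hl : B12B.length = 8 := rfl
      rw [hl] at hS
      refine ⟨S, ?_, fun s hs => ⟨(hS2 s hs).1, (hS2 s hs).2.1, (hS2 s hs).2.2.1⟩⟩
      have hr5 : r < 4 := by omega
      interval_cases r <;> omega
  obtain ⟨S, hS3, hSm⟩ := hS
  have hclass : ∀ P : Spor.M12 → Prop, (∀ s, P s → ∀ s', P s' → IsConj s s') → (S.filter P).card ≤ 1 := by
    intro P hP
    by_contra hcon
    obtain ⟨s, hs⟩ := Finset.card_pos.1 (show 0 < (S.filter P).card by omega)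
    rw [Finset.mem_filter] at hs
    obtain ⟨hsS, hsP⟩ := hs
    obtain ⟨m1, m2, m3⟩ := hSm s hsS
    have h9 := le_kk A (t := s) (S.filter P) fun s' hs' => by
      rw [Finset.mem_filter] at hs'
      exact ⟨(hSm s' hs'.1).1, hP s hsP s' hs'.2⟩
    have h10 := (key s m1 (order_of m2 m3)).2
    omega
  have hA := hclass CoThreeStd.AutInv.IsA fun s hs s' hs' => conj12 (Or.inl ⟨hs, hs'⟩)
  have hB := hclass CoThreeStd.AutInv.IsB fun s hs s' hs' => conj12 (Or.inr ⟨hs, hs'⟩)
  have hcov : S ⊆ S.filter CoThreeStd.AutInv.IsA ∪ S.filter CoThreeStd.AutInv.IsB := by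
    intro s hs
    obtain ⟨m1, m2, m3⟩ := hSm s hs
    rw [Finset.mem_union, Finset.mem_filter, Finset.mem_filter]
    rcases CoThreeStd.AutInv.isA_or_isB m2 m3 with hc | hc
    · exact Or.inl ⟨hs, hc⟩
    · exact Or.inr ⟨hs, hc⟩
  have h9 := (Finset.card_le_card hcov).trans (Finset.card_union_le _ _)
  omega

end Cfsg.Agent.H399.IF
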