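import Cfsg.Agent.H399.IF.Math
import Cfsg.Agent.UGT.End.M22
import Cfsg.Agent.CoThreeStd.AutCent

/-!
# S5719: the rows `M₁₂`, `M₂₂` (helper399)

`|A|` odd: a 2-subgroup of `C_T(σ)` acts semiregularly on the fixed points of the outer involution `σ`;
`8 ∣ |C_T(σ)|` for `M₁₂`, `32 ∣ |C_T(σ)|` for `M₂₂`.
-/

set_option autoImplicit false
set_option linter.unusedSectionVars false
set_option maxRecDepth 100000

namespace Cfsg.Agent.H399.IF

open Cfsg Subgroup Cfsg.Agent.H209.Fxy
open Cfsg.Agent.SporadicA.GolayBase Cfsg.Agent.SporadicA.GolayPerm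
open Cfsg.Agent.SporadicStructure.M24El

/-- the centralizer of an automorphism -/
def fixSub {T : Type*} [Group T] (σ : MulAut T) : Subgroup T where
  carrier := {x | σ x = x}
  one_mem' := map_one σ
  mul_mem' := by
    intro a b ha hb
    show σ (a * b) = a * b
    rw [map_mul, show σ a = a from ha, show σ b = b from hb]
  inv_mem' := by
    intro a ha
    show σ a⁻¹ = a⁻¹
    rw [map_inv, show σ a = a from ha]

theorem mem_fixSub {T : Type*} [Group T] {σ : MulAut T} {x : T} : x ∈ fixSub σ ↔ σ x = x := Iff.rfl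

/-- `|A|` odd: `2 ^ a ∣ |C_T(σ)|` gives `2 ^ a ≤ f(σ)`. -/
theorem odd_le {T : Type*} [Group T] [Finite T] {A : Subgroup T} {Γ : Subgroup (MulAut T)} (h : IF A Γ)
    (hodd : Odd (Nat.card A)) {σ : MulAut T} (hσ : σ ∈ Γ) (h2 : orderOf σ = 2) {B : Subgroup T}
    (hB : ∀ b ∈ B, σ b = b) {a : ℕ} (ha : 2 ^ a ∣ Nat.card B) : 2 ^ a ≤ fx A σ := by
  have h1 := (H999.IFB.IF.E1 h hσ h2 hB).1
  have h3 : (A.subgroupOf B).index * Nat.card (A.subgroupOf B) = Nat.card B := (A.subgroupOf B).index_mul_card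
  have h4 : Nat.card (A.subgroupOf B) = Nat.card (A ⊓ B : Subgroup T) := by
    rw [← Subgroup.inf_subgroupOf_right A B]
    exact Nat.card_congr (subgroupOfEquivOfLe inf_le_right).toEquiv
  have h5 : Nat.card (A ⊓ B : Subgroup T) ∣ Nat.card A := Subgroup.card_dvd_of_le inf_le_left
  have h6 : Odd (Nat.card (A ⊓ B : Subgroup T)) := Odd.of_dvd_nat hodd h5
  have h7 : (2 ^ a).Coprime (Nat.card (A.subgroupOf B)) := by
    rw [h4]
    exact Nat.Coprime.pow_left a h6.coprime_two_left
  have h8 : 2 ^ a ∣ (A.subgroupOf B).index := by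
    rw [← h3] at ha
    exact h7.dvd_of_dvd_mul_right ha
  have h9 : 0 < (A.subgroupOf B).index := Nat.pos_of_ne_zero Subgroup.index_ne_zero_of_finite
  exact (Nat.le_of_dvd h9 h8).trans h1

/-- an inner involution of `Γ` gives an involution of `A` -/
theorem not_odd_of_inner {T : Type*} [Group T] [Finite T] [IsSimpleGroup T] {A : Subgroup T} {Γ : Subgroup (MulAut T)}
    (h : IF A Γ) (hna : ∃ a b : T, a * b ≠ b * a) (hodd : Odd (Nat.card A)) {t : T} (hσ : MulAut.conj t ∈ Γ)
    (h2 : orderOf (MulAut.conj t) = 2) : False := by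
  rw [H999.IFB.orderOf_conj hna] at h2
  have h3 : t ∈ A := (h.conj t).1 hσ
  have h4 : orderOf t ∣ Nat.card A := Subgroup.orderOf_dvd_natCard A h3
  rw [h2] at h4
  exact (Nat.not_even_iff_odd.2 hodd) (even_iff_two_dvd.2 h4)

theorem index_le {T : Type*} [Group T] [Finite T] (A : Subgroup T) : A.index ≤ Nat.card T := by
  rw [← A.card_mul_index]
  exact Nat.le_mul_of_pos_left _ Nat.card_pos

/-! ### `M₁₂` -/

open CoThreeStd.AutGamma CoThreeStd.AutMain CoThreeStd.AutInv CoThreeStd.AutClass in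
theorem card_fix_c : Nat.card (fixSub (c : MulAut Spor.M12)) = 120 := by
  have hF : F0 ≤ fixSub (c : MulAut Spor.M12) := fun f hf => c_F0 hf
  have hyF : CoThreeStd.MTwelve.y ∉ F0 := by
    intro h
    obtain ⟨σ, -, hσ⟩ := mem_F0.1 h
    exact CoThreeStd.MTwelve.y_ne_w σ hσ.symm
  have hcy : CoThreeStd.MTwelve.y ∈ fixSub (c : MulAut Spor.M12) := by
    refine (c_fix (h := CoThreeStd.MTwelve.y)).2 (Or.inr ?_)
    rw [CoThreeStd.MTwelve.y_sq]
    exact F0.one_mem
  have h2 : (F0.subgroupOf (fixSub (c : MulAut Spor.M12))).index = 2 := by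
    rw [Subgroup.index_eq_two_iff]
    refine ⟨⟨CoThreeStd.MTwelve.y, hcy⟩, fun b => ?_⟩
    rw [mem_subgroupOf, mem_subgroupOf]
    show Xor ((b : Spor.M12) * CoThreeStd.MTwelve.y ∈ F0) ((b : Spor.M12) ∈ F0)
    rcases (c_fix (h := (b : Spor.M12))).1 b.2 with h1 | h1
    · refine Or.inr ⟨h1, fun h3 => hyF ?_⟩
      exact (Subgroup.mul_mem_cancel_left F0 h1).1 h3
    · refine Or.inl ⟨h1, fun h3 => hyF ?_⟩
      exact (Subgroup.mul_mem_cancel_left F0 h3).1 h1
  have h3 := (F0.subgroupOf (fixSub (c : MulAut Spor.M12))).index_mul_card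
  rw [h2, Nat.card_congr (subgroupOfEquivOfLe hF).toEquiv, CoThreeStd.AutCent.card_F0] at h3
  omega

/-- conjugate automorphisms have isomorphic centralizers -/
theorem card_fix_conj {T : Type*} [Group T] (m : T) (c : MulAut T) :
    Nat.card (fixSub (MulAut.conj m * c * (MulAut.conj m)⁻¹)) = Nat.card (fixSub c) := by
  have key : ∀ x : T, (MulAut.conj m * c * (MulAut.conj m)⁻¹) x = m * c (m⁻¹ * x * m) * m⁻¹ := fun x => by
    rw [MulAut.mul_apply, MulAut.mul_apply, ← map_inv, MulAut.conj_apply, MulAut.conj_apply, inv_inv]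
  refine Nat.card_congr ⟨fun x => ⟨m⁻¹ * x * m, ?_⟩, fun x => ⟨m * x * m⁻¹, ?_⟩, fun x => ?_, fun x => ?_⟩
  · have h1 := mem_fixSub.1 x.2
    rw [key] at h1
    show c (m⁻¹ * x * m) = m⁻¹ * x * m
    calc c (m⁻¹ * (x : T) * m) = m⁻¹ * (m * c (m⁻¹ * (x : T) * m) * m⁻¹) * m := by group
      _ = m⁻¹ * (x : T) * m := by rw [h1]
  · have h1 := mem_fixSub.1 x.2
    rw [mem_fixSub, key]
    rw [show m⁻¹ * (m * (x : T) * m⁻¹) * m = x by group, h1]
  · apply Subtype.ext
    show m * (m⁻¹ * (x : T) * m) * m⁻¹ = x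
    group
  · apply Subtype.ext
    show m⁻¹ * (m * (x : T) * m⁻¹) * m = x
    group

theorem killO_m12 : KillO Spor.M12 := by
  intro A Γ h hodd
  have hs : IsSimpleGroup Spor.M12 := H715.Fpr.MathData.simple12
  have hN : Nat.card Spor.M12 = 95040 := H715.Fpr.MathData.card12
  have hfin : Finite Spor.M12 := Nat.finite_of_card_ne_zero (by rw [hN]; norm_num)
  have hna := na_of hN (by norm_num)
  obtain ⟨σ, hσ, h2, -⟩ := h.ex
  by_cases hI : σ ∈ CoThreeStd.AutClass.Inn
  · obtain ⟨t, rfl⟩ := hI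
    exact not_odd_of_inner h hna hodd hσ h2
  · have hσσ : σ * σ = 1 := by rw [← pow_two, ← h2, pow_orderOf_eq_one]
    obtain ⟨m, hm⟩ := CoThreeStd.AutInv.outer_conj hI hσσ
    have hc : Nat.card (fixSub σ) = 120 := by rw [hm, card_fix_conj, card_fix_c]
    have h3 := odd_le h hodd hσ h2 (B := fixSub σ) (fun b hb => hb) (a := 3) (by rw [hc]; norm_num)
    have h4 := h.small σ hσ h2
    have h5 := index_le A
    rw [hN] at h5
    have h6 : 8 ^ 6 ≤ fx A σ ^ 6 := Nat.pow_le_pow_left (by simpa using h3) 6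
    omega

/-- **`M₁₂`.** -/
theorem row_m12 : Row fun T => Spor.IsoM12 T := by
  rintro T _ _ _ - ⟨e⟩ A Γ hA
  have hfin : Finite Spor.M12 := Finite.of_equiv _ e.toEquiv
  exact Kill.congr e.symm (Kill.of killE_m12 killO_m12) A Γ hA

/-! ### `M₂₂` -/

open UGT.End.M22 J4Type.Aut22 in
theorem dvd_fix_m22 {A : Subgroup Spor.M22} {Γ : Subgroup (MulAut Spor.M22)} (h : IF A Γ)
    (hodd : Odd (Nat.card A)) {σ : MulAut Spor.M22} (hσ : σ ∈ Γ) (h2 : orderOf σ = 2) :
    2 ^ 5 ∣ Nat.card (fixSub σ) := by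
  have hs : IsSimpleGroup Spor.M22 := H715.Fpr.MathData.simple22
  have hN : Nat.card Spor.M22 = 443520 := H715.Fpr.MathData.card22
  have hfin : Finite Spor.M22 := Nat.finite_of_card_ne_zero (by rw [hN]; norm_num)
  have hna := na_of hN (by norm_num)
  obtain ⟨d, hd, hdσ⟩ := J4Type.Aut22.exists_conj σ
  have hσσ : σ * σ = 1 := by rw [← pow_two, ← h2, pow_orderOf_eq_one]
  by_cases hd0 : d none = none
  · exfalso
    have hdM : d ∈ Spor.M22 := (mem_M22_iff_D22 d).2 ⟨hd, hd0⟩
    have he : σ = MulAut.conj (⟨d, hdM⟩ : Spor.M22) := by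
      ext m
      rw [hdσ m]
      rfl
    rw [he] at hσ h2
    exact not_odd_of_inner h hna hodd hσ h2
  · obtain ⟨hdM, hsw⟩ := (mem_D22_iff d).1 hd
    have hsw' : d none = some 0 ∧ d (some 0) = none := by
      rcases hsw with hsw | hsw
      · exact absurd hsw.1 hd0
      · exact hsw
    have hdd : d * d = 1 := by
      refine eq_one_of_comm (D22.mul_mem hd hd) fun n hn => ?_
      have h3 : ((σ (σ ⟨n, hn⟩) : Spor.M22) : Equiv.Perm GolayPt) = d * (d * n * d⁻¹) * d⁻¹ := by
        rw [hdσ, hdσ]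
      have h4 : σ (σ ⟨n, hn⟩) = ⟨n, hn⟩ := by rw [← MulAut.mul_apply, hσσ]; rfl
      rw [h4] at h3
      have h5 : n = d * (d * n * d⁻¹) * d⁻¹ := h3
      calc d * d * n = d * (d * n * d⁻¹) * d⁻¹ * (d * d) := by group
        _ = n * (d * d) := by rw [← h5]
    set g : M24 := ⟨d, hdM⟩ with hg
    have hgg : g * g = 1 := Subtype.ext hdd
    have hg1 : g ≠ 1 := by
      intro h3
      apply hd0
      have h4 : d = 1 := congrArg Subtype.val h3
      rw [h4]
      rfl
    have hC : 512 ∣ Nat.card (centralizer ({g} : Set M24)) := by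
      rcases KFacts.M24Two.Count.conj_or g hgg hg1 with ⟨k, hk⟩ | ⟨k, hk⟩
      · have h3 : Nat.card (centralizer ({g} : Set M24)) = 21504 :=
          (H672.OZ.cent_eq_of_conj (isConj_iff.2 ⟨k, hk⟩)).trans KFacts.M24Two.Orders.card_centralizer_z
        rw [h3]
        norm_num
      · have h3 : Nat.card (centralizer ({g} : Set M24)) = 7680 :=
          (H672.OZ.cent_eq_of_conj (isConj_iff.2 ⟨k, hk⟩)).trans KFacts.M24Two.Orders.card_centralizer_w
        rw [h3]
        norm_num
    have hN4 : Nat.card M24 = 244823040 := H715.Fpr.MathData.card24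
    have hfin4 : Finite M24 := Nat.finite_of_card_ne_zero (by rw [hN4]; norm_num)
    set C : Subgroup M24 := centralizer ({g} : Set M24) with hCdef
    set St : Subgroup C := MulAction.stabilizer C (none : GolayPt) with hSt
    have hidx : St.index ≤ 24 := by
      rw [hSt, MulAction.index_stabilizer]
      refine (Set.ncard_le_ncard (Set.subset_univ _) (Set.toFinite _)).trans ?_
      rw [Set.ncard_univ, Nat.card_eq_fintype_card]
      decide
    have hpos : 0 < St.index := Nat.pos_of_ne_zero Subgroup.index_ne_zero_of_finite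
    have hmul := St.card_mul_index
    have hcard : Nat.card St = Nat.card (fixSub σ) := by
      have hto : ∀ x : St, (((x : C) : M24) : Equiv.Perm GolayPt) ∈ Spor.M22 ∧
          (((x : C) : M24) : Equiv.Perm GolayPt) * d = d * (((x : C) : M24) : Equiv.Perm GolayPt) := by
        intro x
        have h1 : ((x : C) : M24) * g = g * ((x : C) : M24) := mem_centralizer_singleton_iff.1 (x : C).2
        have h3 : (((x : C) : M24) : Equiv.Perm GolayPt) * d = d * (((x : C) : M24) : Equiv.Perm GolayPt) :=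
          congrArg Subtype.val h1
        have h4 : (((x : C) : M24) : Equiv.Perm GolayPt) none = none := x.2
        have h5 : (((x : C) : M24) : Equiv.Perm GolayPt) (some 0) = some 0 := by
          rw [← hsw'.1]
          have h6 := congrArg (fun p : Equiv.Perm GolayPt => p none) h3
          change (((x : C) : M24) : Equiv.Perm GolayPt) (d none) = d ((((x : C) : M24) : Equiv.Perm GolayPt) none) at h6
          rw [h6, h4]
        exact ⟨⟨⟨((x : C) : M24).2, h4⟩, h5⟩, h3⟩
      have hfr : ∀ y : Spor.M22, σ y = y → (y : Equiv.Perm GolayPt) * d = d * (y : Equiv.Perm GolayPt) := by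
        intro y hy
        have h1 := hdσ y
        rw [hy] at h1
        rw [eq_mul_inv_iff_mul_eq] at h1
        exact h1
      refine Nat.card_congr ⟨fun x => ⟨⟨_, (hto x).1⟩, ?_⟩, fun y => ⟨⟨⟨(y : Spor.M22).1, (y : Spor.M22).2.1.1⟩, ?_⟩, ?_⟩,
        fun x => ?_, fun y => ?_⟩
      · rw [mem_fixSub]
        apply Subtype.ext
        rw [hdσ]
        show d * (((x : C) : M24) : Equiv.Perm GolayPt) * d⁻¹ = (((x : C) : M24) : Equiv.Perm GolayPt)
        exact mul_inv_eq_iff_eq_mul.2 (hto x).2.symm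
      · rw [hCdef, mem_centralizer_singleton_iff]
        exact Subtype.ext (hfr y y.2)
      · show ((y : Spor.M22) : Equiv.Perm GolayPt) none = none
        exact (y : Spor.M22).2.1.2
      · rfl
      · rfl
    rw [hcard] at hmul
    rw [← hmul] at hC
    set o := St.index with ho
    set k := Nat.card (fixSub σ) with hk
    interval_cases o <;> omega

theorem killO_m22 : KillO Spor.M22 := by
  intro A Γ h hodd
  have hN : Nat.card Spor.M22 = 443520 := H715.Fpr.MathData.card22
  have hfin : Finite Spor.M22 := Nat.finite_of_card_ne_zero (by rw [hN]; norm_num)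
  obtain ⟨σ, hσ, h2, -⟩ := h.ex
  have h3 := odd_le h hodd hσ h2 (B := fixSub σ) (fun b hb => hb) (a := 5) (dvd_fix_m22 h hodd hσ h2)
  have h4 := h.small σ hσ h2
  have h5 := index_le A
  rw [hN] at h5
  have h6 : 32 ^ 6 ≤ fx A σ ^ 6 := Nat.pow_le_pow_left (by simpa using h3) 6
  omega

/-- **`M₂₂`.** -/
theorem row_m22 : Row fun T => Spor.IsoM22 T := by
  rintro T _ _ _ - ⟨e⟩ A Γ hA
  have hfin : Finite Spor.M22 := Finite.of_equiv _ e.toEquiv
  exact Kill.congr e.symm (Kill.of killE_m22 killO_m22) A Γ hA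

end Cfsg.Agent.H399.IF
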