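import Cfsg.Agent.KFacts.SuzInvol
import Cfsg.Agent.H692.CubeSuz
import Cfsg.Agent.H546.IF.OddBase

/-!
# S5719: `Suz`, `|A|` odd (helper399)

`64 ∣ |C_T(σ)|` for the outer involutions `σ`: `N = Q₀ ∩ C(σ)` has order 32 (`ρ`) or 8 (`σ`), and `C(z₀) ∩ C(σ)` contains
`d`, respectively a dihedral group of order 8 modulo `N`.
-/

set_option autoImplicit false
set_option maxRecDepth 100000
set_option exponentiation.threshold 4000
set_option linter.unusedSectionVars false

namespace Cfsg.Agent.H399.IF.SuzO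

open Cfsg.Spor Cfsg.Agent.SporadicRecognition.SuzOrder Cfsg.Agent.SuzThree.Basic
  Cfsg.Agent.SuzThree.CentA Cfsg.Agent.SuzThree.QZero Cfsg.Agent.KFacts.SuzCent Cfsg.Agent.LargeExtra.Model
  Cfsg.Agent.LargeExtra.Pres Cfsg.Agent.KFacts.Codes Cfsg.Agent.KFacts.Orbits Cfsg.Agent.KFacts.SuzR
  Cfsg.Agent.KFacts.SuzSheet Cfsg.Agent.KFacts.SuzLarge Cfsg.Agent.KFacts.SuzOut Cfsg.Agent.Co2Type.Quad
  Cfsg.Agent.KFacts.AutLarge Cfsg.Agent.KFacts.SuzFour Cfsg.Agent.KFacts.SuzRho Cfsg.Agent.KFacts.SuzInvolTab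
  Cfsg.Agent.KFacts.SuzInvol
open Cfsg.Agent.H383.Cube (fix)
open Cfsg.Agent.H209.Fxy (IF KillO)

/-- one step of a chain of 2-extensions -/
theorem two_mul_dvd {G : Type*} [Group G] [Finite G] {H : Subgroup G} {s : G}
    (hn : ∀ h ∈ H, s * h * s⁻¹ ∈ H) (h2 : s * s ∈ H) (hs : s ∉ H) :
    2 * Nat.card H ∣ Nat.card (H ⊔ Subgroup.zpowers s : Subgroup G) := by
  set K := H ⊔ Subgroup.zpowers s with hK
  have hHK : H ≤ K := le_sup_left
  have hsK : s ∈ K := (le_sup_right : Subgroup.zpowers s ≤ K) (Subgroup.mem_zpowers s)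
  have hsi : ∀ h ∈ H, s⁻¹ * h * s ∈ H := by
    intro h hh
    have h1 := H.mul_mem (H.mul_mem (H.inv_mem h2) (hn h hh)) h2
    have e : (s * s)⁻¹ * (s * h * s⁻¹) * (s * s) = s⁻¹ * h * s := by group
    rwa [e] at h1
  have hsN : s ∈ Subgroup.normalizer (H : Set G) := by
    rw [Subgroup.mem_normalizer_iff]
    intro h
    constructor
    · exact hn h
    · intro h1
      have h3 := hsi _ h1
      have e : s⁻¹ * (s * h * s⁻¹) * s = h := by group
      rwa [e] at h3
  have hKN : K ≤ Subgroup.normalizer (H : Set G) :=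
    sup_le Subgroup.le_normalizer ((Subgroup.zpowers_le).2 hsN)
  have hnorm : (H.subgroupOf K).Normal := Subgroup.normal_subgroupOf_of_le_normalizer hKN
  have h3 : Nat.card (H.subgroupOf K) = Nat.card H := Nat.card_congr (Subgroup.subgroupOfEquivOfLe hHK).toEquiv
  have h4 : 2 ∣ Nat.card (K ⧸ H.subgroupOf K) := by
    have h5 : orderOf (QuotientGroup.mk (s := H.subgroupOf K) (⟨s, hsK⟩ : K)) = 2 := by
      apply orderOf_eq_prime
      · rw [← QuotientGroup.mk_pow, QuotientGroup.eq_one_iff, Subgroup.mem_subgroupOf]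
        show s ^ 2 ∈ H
        rwa [pow_two]
      · intro h6
        rw [QuotientGroup.eq_one_iff, Subgroup.mem_subgroupOf] at h6
        exact hs h6
    rw [← h5]
    exact orderOf_dvd_natCard _
  have h5 := Subgroup.card_eq_card_quotient_mul_card_subgroup (H.subgroupOf K)
  rw [h3] at h5
  rw [h5]
  exact Nat.mul_dvd_mul_right h4 _

/-- the elements of `C(z₀)` fixing `v` modulo `z₀` -/
noncomputable def Sv (v : Suz) : Subgroup Suz where
  carrier := {h | h * z0 = z0 * h ∧ (h * v * h⁻¹ = v ∨ h * v * h⁻¹ = v * z0)}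
  one_mem' := ⟨by rw [one_mul, mul_one], Or.inl (by group)⟩
  mul_mem' := by
    rintro a b ⟨ha, ha'⟩ ⟨hb, hb'⟩
    refine ⟨by rw [mul_assoc, hb, ← mul_assoc, ha, mul_assoc], ?_⟩
    have e : a * b * v * (a * b)⁻¹ = a * (b * v * b⁻¹) * a⁻¹ := by group
    rw [e]
    have hz : ∀ x : Suz, a * (x * z0) * a⁻¹ = (a * x * a⁻¹) * z0 := by
      intro x
      have h1 : z0 * a⁻¹ = a⁻¹ * z0 := by
        rw [eq_inv_mul_iff_mul_eq, ← mul_assoc, ha, mul_inv_cancel_right]
      calc a * (x * z0) * a⁻¹ = a * x * (z0 * a⁻¹) := by group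
        _ = (a * x * a⁻¹) * z0 := by rw [h1]; group
    have hzz : ∀ x : Suz, x * z0 * z0 = x := fun x => by rw [mul_assoc, large.z_sq, mul_one]
    rcases hb' with h1 | h1 <;> rcases ha' with h2 | h2
    · left; rw [h1, h2]
    · right; rw [h1, h2]
    · right; rw [h1, hz, h2]
    · left; rw [h1, hz, h2, hzz]
  inv_mem' := by
    rintro a ⟨ha, ha'⟩
    have h1 : z0 * a⁻¹ = a⁻¹ * z0 := by
      rw [eq_inv_mul_iff_mul_eq, ← mul_assoc, ha, mul_inv_cancel_right]
    refine ⟨h1.symm, ?_⟩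
    rcases ha' with h2 | h2
    · left
      have e : v = a⁻¹ * (a * v * a⁻¹) * a := by group
      rw [h2] at e
      rw [inv_inv]
      exact e.symm
    · right
      rw [inv_inv]
      have e : v = a⁻¹ * (a * v * a⁻¹) * a := by group
      rw [h2] at e
      have e2 : a⁻¹ * (v * z0) * a = (a⁻¹ * v * a) * z0 := by
        calc a⁻¹ * (v * z0) * a = a⁻¹ * v * (z0 * a) := by group
          _ = _ := by rw [← ha]; group
      rw [e2] at e
      have e3 : v * z0 = a⁻¹ * v * a := by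
        conv_lhs => rw [e]
        rw [mul_assoc, large.z_sq, mul_one]
      exact e3.symm

theorem Q0_le_Sv {v : Suz} (hv : v ∈ Q0) : Q0 ≤ Sv v := by
  intro h hh
  refine ⟨large.comm_z h hh, ?_⟩
  have hz : z0 * h⁻¹ = h⁻¹ * z0 := by
    rw [eq_inv_mul_iff_mul_eq, ← mul_assoc, large.comm_z h hh, mul_inv_cancel_right]
  rcases large.comm h hh v hv with h1 | h1
  · left; rw [h1, mul_inv_cancel_right]
  · right
    rw [h1]
    calc v * h * z0 * h⁻¹ = v * h * (z0 * h⁻¹) := by group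
      _ = v * z0 := by rw [hz]; group

theorem mem_Sv {w : List ℕ} {c : ℕ} (h : actw AA w c % 64 = c % 64) : gw gg w ∈ Sv (C c) := by
  refine ⟨gw_gg w, ?_⟩
  have h1 : gw gg w * C c * (gw gg w)⁻¹ = C (actw AA w c) := conj_word conj_AA w c
  rw [h1]
  rcases eqz_C h with h2 | h2
  · exact Or.inl h2
  · exact Or.inr h2

theorem not_mem_Sv {w : List ℕ} {c : ℕ} (hc : c < 128) (hlt : actw AA w c < 128)
    (h : actw AA w c ≠ c) (h' : actw AA w c ≠ mulc BB 6 c 64) : gw gg w ∉ Sv (C c) := by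
  rintro ⟨-, h2⟩
  have h1 : gw gg w * C c * (gw gg w)⁻¹ = C (actw AA w c) := conj_word conj_AA w c
  rw [h1] at h2
  rcases h2 with h2 | h2
  · exact h (C_inj hlt hc h2)
  · rw [C_z] at h2
    exact h' (C_inj hlt (mulc_lt' hc (by norm_num)) h2)

/-! ### The group `N` -/

/-- the action on codes -/
def fc (s : Bool) (c : ℕ) : ℕ := act BB 6 (img (cond s sl rl)) c

theorem fc_lt : ∀ s : Bool, ∀ c < 128, fc s c < 128 := by decide +kernel

theorem N_eq (s : Bool) : ((Q0 ⊓ fix (st s) : Subgroup Suz) : Set Suz) =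
    C '' (((Finset.range 128).filter fun c => fc s c = c : Finset ℕ) : Set ℕ) := by
  ext y
  constructor
  · rintro ⟨hy, hf⟩
    obtain ⟨c, hc, rfl⟩ := exists_code hy
    refine ⟨c, ?_, rfl⟩
    rw [Finset.coe_filter]
    refine ⟨Finset.mem_range.2 hc, C_inj (fc_lt s c hc) hc ?_⟩
    have h1 : st s (C c) = C c := hf
    rw [st_act] at h1
    exact h1
  · rintro ⟨c, hc, rfl⟩
    rw [Finset.coe_filter] at hc
    refine ⟨C_mem c, ?_⟩
    show st s (C c) = C c
    rw [st_act]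
    exact congrArg C hc.2

theorem card_codes : ((Finset.range 128).filter fun c => fc false c = c).card = 32 ∧
    ((Finset.range 128).filter fun c => fc true c = c).card = 8 := by decide +kernel

theorem card_N (s : Bool) : Nat.card (Q0 ⊓ fix (st s) : Subgroup Suz) = cond s 8 32 := by
  have h1 : Nat.card (Q0 ⊓ fix (st s) : Subgroup Suz) = ((Q0 ⊓ fix (st s) : Subgroup Suz) : Set Suz).ncard := rfl
  rw [h1, N_eq, Set.InjOn.ncard_image, Set.ncard_coe_finset]
  · cases s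
    · exact card_codes.1
    · exact card_codes.2
  · intro a ha b hb hab
    rw [Finset.coe_filter] at ha hb
    exact C_inj (Finset.mem_range.1 ha.1) (Finset.mem_range.1 hb.1) hab

theorem conj_N (s : Bool) {g : Suz} (hg : g * z0 = z0 * g) (hf : st s g = g) :
    ∀ h ∈ (Q0 ⊓ fix (st s) : Subgroup Suz), g * h * g⁻¹ ∈ (Q0 ⊓ fix (st s) : Subgroup Suz) := by
  rintro h ⟨h1, h2⟩
  refine ⟨large.conj_mem g hg h h1, ?_⟩
  have h2' : st s h = h := h2
  show st s (g * h * g⁻¹) = g * h * g⁻¹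
  rw [map_mul, map_mul, map_inv, h2', hf]

theorem finite_suz : Finite Suz := Cfsg.Agent.CTwoTab.Suz.finSuz

/-! ### `ρ` -/

theorem gw_d : gw gg [0] = el [.d] := by
  show el [.d] * 1 = _
  rw [mul_one]

theorem rho_d : rho (el [.d]) = el [.d] := rho_el [.d]

theorem dvd_rho : 2 ^ 6 ∣ Nat.card (fix rho) := by
  have hfin := finite_suz
  have h1 := two_mul_dvd (H := Q0 ⊓ fix (st false)) (s := gw gg [0])
    (conj_N false (gw_gg _) (by rw [gw_d]; exact rho_d))
    (by
      have : gw gg [0] * gw gg [0] = 1 := by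
        rw [gw_d, ← el_append]
        exact el_eq_one (by decide +kernel)
      rw [this]
      exact one_mem _)
    (fun h => not_mem_Sv (w := [0]) (c := 1) (by norm_num) (by decide +kernel) (by decide +kernel) (by decide +kernel)
      (Q0_le_Sv (C_mem 1) h.1))
  rw [card_N] at h1
  refine h1.trans (Subgroup.card_dvd_of_le (sup_le inf_le_right ?_))
  rw [Subgroup.zpowers_le, gw_d]
  exact rho_d

/-! ### `σ` -/

theorem conj_sup {G : Type*} [Group G] {H : Subgroup G} {s t : G} (hn : ∀ h ∈ H, s * h * s⁻¹ ∈ H)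
    (ht : s * t * s⁻¹ ∈ H ⊔ Subgroup.zpowers t) : ∀ h ∈ H ⊔ Subgroup.zpowers t, s * h * s⁻¹ ∈ H ⊔ Subgroup.zpowers t := by
  have h1 : H ⊔ Subgroup.zpowers t ≤ (H ⊔ Subgroup.zpowers t).comap (MulAut.conj s).toMonoidHom := by
    refine sup_le (fun h hh => ?_) ?_
    · exact (le_sup_left : H ≤ H ⊔ Subgroup.zpowers t) (hn h hh)
    · rw [Subgroup.zpowers_le]
      exact ht
  exact fun h hh => h1 hh

noncomputable abbrev dd : Suz := gw gg [0]
noncomputable abbrev xx' : Suz := gw gg [2, 0, 3, 0, 2]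
noncomputable abbrev ss : Suz := gw gg [0, 2, 0, 3, 0, 2, 0, 2, 0, 3, 0, 2]

theorem dd_el : dd = el [.d] := gw_d

def xw : List Suz.Gen := h1 ++ ([.d] ++ (h2 ++ ([.d] ++ h1)))

theorem xx'_el : xx' = el xw := by
  show el h1 * (el [.d] * (el h2 * (el [.d] * (el h1 * 1)))) = _
  rw [mul_one, xw, el_append, el_append, el_append, el_append]

theorem ss_eq : ss = dd * xx' * (dd * xx') := by
  show el [.d] * (el h1 * (el [.d] * (el h2 * (el [.d] * (el h1 * (el [.d] * (el h1 * (el [.d] * (el h2 *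
    (el [.d] * (el h1 * 1))))))))))) = (el [.d] * 1) * (el h1 * (el [.d] * (el h2 * (el [.d] * (el h1 * 1))))) *
    ((el [.d] * 1) * (el h1 * (el [.d] * (el h2 * (el [.d] * (el h1 * 1))))))
  group

theorem sigma_d : sigma (el [.d]) = el [.d] := by
  rw [sigma_el]
  exact eq_of_reps (Rep.el _) (Rep.el _) (by decide +kernel)

theorem sigma_x : sigma (el xw) = el xw := by
  rw [sigma_el]
  exact eq_of_reps (Rep.el _) (Rep.el _) (by decide +kernel)

theorem dd_sq : dd * dd = 1 := by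
  rw [dd_el, ← el_append]
  exact el_eq_one (by decide +kernel)

theorem x_sq : xx' * xx' = 1 := by
  rw [xx'_el, ← el_append]
  exact el_eq_one (by decide +kernel)

theorem ss_sq : ss * ss = z0 := by
  rw [ss_eq, dd_el, xx'_el, ← el_append, ← el_append, ← el_append]
  exact eq_of_reps (Rep.el _) (Rep.el _) (by decide +kernel)

theorem f_d : st true dd = dd := by rw [dd_el]; exact sigma_d
theorem f_x : st true xx' = xx' := by rw [xx'_el]; exact sigma_x
theorem f_s : st true ss = ss := by rw [ss_eq, map_mul, map_mul, f_d, f_x]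

theorem dvd_sigma : 2 ^ 6 ∣ Nat.card (fix sigma) := by
  have hfin := finite_suz
  set N : Subgroup Suz := Q0 ⊓ fix (st true) with hN
  have cN : Nat.card N = 8 := card_N true
  have hdi : dd⁻¹ = dd := inv_eq_of_mul_eq_one_left dd_sq
  have hxi : xx'⁻¹ = xx' := inv_eq_of_mul_eq_one_left x_sq
  -- the first step
  have k1 := two_mul_dvd (H := N) (s := ss) (conj_N true (gw_gg _) f_s) (by rw [ss_sq]; exact ⟨large.z_mem, sigma_z⟩)
    (fun h => not_mem_Sv (c := 1) (by norm_num) (by decide +kernel) (by decide +kernel) (by decide +kernel)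
      (Q0_le_Sv (C_mem 1) h.1))
  -- the second step
  have hds : dd * ss * dd⁻¹ = ss⁻¹ := by
    rw [hdi]
    calc dd * ss * dd = (dd * dd) * xx' * dd * xx' * dd := by rw [ss_eq]; group
      _ = (xx'⁻¹ * dd⁻¹ * xx'⁻¹ * dd⁻¹)⁻¹⁻¹ := by rw [hxi, hdi, dd_sq]; group
      _ = ss⁻¹ := by rw [ss_eq]; group
  have hsN1 : ss ∈ N ⊔ Subgroup.zpowers ss := (le_sup_right : Subgroup.zpowers ss ≤ _) (Subgroup.mem_zpowers ss)
  have k2 := two_mul_dvd (H := N ⊔ Subgroup.zpowers ss) (s := dd)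
    (conj_sup (conj_N true (gw_gg _) f_d) (by rw [hds]; exact inv_mem hsN1)) (by rw [dd_sq]; exact one_mem _)
    (fun h => not_mem_Sv (w := [0]) (c := 32) (by norm_num) (by decide +kernel) (by decide +kernel) (by decide +kernel)
      ((sup_le ((inf_le_left : N ≤ Q0).trans (Q0_le_Sv (C_mem 32)))
        ((Subgroup.zpowers_le).2 (mem_Sv (by decide +kernel)))) h))
  -- the third step
  have hxs : xx' * ss * xx'⁻¹ = ss⁻¹ := by
    rw [hxi]
    calc xx' * ss * xx' = xx' * dd * xx' * dd * (xx' * xx') := by rw [ss_eq]; group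
      _ = xx'⁻¹ * dd⁻¹ * xx'⁻¹ * dd⁻¹ := by rw [x_sq, hxi, hdi, mul_one]
      _ = ss⁻¹ := by rw [ss_eq]; group
  have hxd : xx' * dd * xx'⁻¹ = dd * ss := by
    rw [hxi]
    calc xx' * dd * xx' = (dd * dd) * xx' * dd * xx' := by rw [dd_sq, one_mul]
      _ = dd * ss := by rw [ss_eq]; group
  set H1 := N ⊔ Subgroup.zpowers ss with hH1
  have hdH2 : dd ∈ H1 ⊔ Subgroup.zpowers dd := (le_sup_right : Subgroup.zpowers dd ≤ _) (Subgroup.mem_zpowers dd)
  have hsH2 : ss ∈ H1 ⊔ Subgroup.zpowers dd := (le_sup_left : H1 ≤ _) hsN1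
  have k3 := two_mul_dvd (H := H1 ⊔ Subgroup.zpowers dd) (s := xx')
    (conj_sup (conj_sup (conj_N true (gw_gg _) f_x) (by rw [hxs]; exact inv_mem hsN1))
      (by rw [hxd]; exact Subgroup.mul_mem _ hdH2 hsH2)) (by rw [x_sq]; exact one_mem _)
    (fun h => not_mem_Sv (w := [2, 0, 3, 0, 2]) (c := 4) (by norm_num) (by decide +kernel) (by decide +kernel)
      (by decide +kernel)
      ((sup_le (sup_le ((inf_le_left : N ≤ Q0).trans (Q0_le_Sv (C_mem 4)))
        ((Subgroup.zpowers_le).2 (mem_Sv (by decide +kernel)))) ((Subgroup.zpowers_le).2 (mem_Sv (by decide +kernel)))) h))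
  have k4 : Nat.card ((H1 ⊔ Subgroup.zpowers dd) ⊔ Subgroup.zpowers xx' : Subgroup Suz) ∣ Nat.card (fix sigma) := by
    refine Subgroup.card_dvd_of_le (sup_le (sup_le (sup_le inf_le_right ?_) ?_) ?_)
    · rw [Subgroup.zpowers_le]; exact f_s
    · rw [Subgroup.zpowers_le]; exact f_d
    · rw [Subgroup.zpowers_le]; exact f_x
  rw [cN] at k1
  calc 2 ^ 6 = 2 * (2 * (2 * 8)) := by norm_num
    _ ∣ 2 * (2 * Nat.card (N ⊔ Subgroup.zpowers ss : Subgroup Suz)) :=
        Nat.mul_dvd_mul_left _ (Nat.mul_dvd_mul_left _ k1)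
    _ ∣ 2 * Nat.card (H1 ⊔ Subgroup.zpowers dd : Subgroup Suz) := Nat.mul_dvd_mul_left _ k2
    _ ∣ _ := k3.trans k4

/-! ### All outer involutions -/

theorem card_fix_conj (al : MulAut Suz) (g : Suz) :
    Nat.card (fix (MulAut.conj g * al * (MulAut.conj g)⁻¹)) = Nat.card (fix al) := by
  have key : ∀ x : Suz, (MulAut.conj g * al * (MulAut.conj g)⁻¹) x = g * al (g⁻¹ * x * g) * g⁻¹ := fun x => by
    rw [MulAut.mul_apply, MulAut.mul_apply, ← map_inv, MulAut.conj_apply, MulAut.conj_apply, inv_inv]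
  refine Nat.card_congr ⟨fun x => ⟨g⁻¹ * x * g, ?_⟩, fun x => ⟨g * x * g⁻¹, ?_⟩, fun x => ?_, fun x => ?_⟩
  · have h1 : (MulAut.conj g * al * (MulAut.conj g)⁻¹) (x : Suz) = x := x.2
    rw [key] at h1
    show al (g⁻¹ * x * g) = g⁻¹ * x * g
    calc al (g⁻¹ * (x : Suz) * g) = g⁻¹ * (g * al (g⁻¹ * (x : Suz) * g) * g⁻¹) * g := by group
      _ = g⁻¹ * (x : Suz) * g := by rw [h1]
  · have h1 : al (x : Suz) = x := x.2
    show (MulAut.conj g * al * (MulAut.conj g)⁻¹) (g * x * g⁻¹) = g * x * g⁻¹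
    rw [key]
    rw [show g⁻¹ * (g * (x : Suz) * g⁻¹) * g = x by group, h1]
  · apply Subtype.ext
    show g * (g⁻¹ * (x : Suz) * g) * g⁻¹ = x
    group
  · apply Subtype.ext
    show g⁻¹ * (g * (x : Suz) * g⁻¹) * g = x
    group

theorem inv_dvd : Inv fun al => 2 ^ 6 ∣ Nat.card (fix al) where
  conj al g h := by rw [card_fix_conj]; exact h
  st s := by
    cases s
    · exact dvd_rho
    · exact dvd_sigma

theorem out_suz : Cfsg.Agent.H546.IFO.OutP Suz fun σ => 2 ^ 6 ∣ Nat.card (fix σ) := by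
  intro σ h2 hout
  exact outer_ind inv_dvd (by rw [← pow_two, ← h2, pow_orderOf_eq_one]) (fun ⟨s, hs⟩ => hout s hs.symm)

theorem na_of {G : Type*} [Group G] [Finite G] [IsSimpleGroup G] {N : ℕ} (hN : Nat.card G = N) (hp : ¬ N.Prime) :
    ∃ a b : G, a * b ≠ b * a := by
  by_contra hcon
  push Not at hcon
  apply hp
  rw [← hN]
  let inst : CommGroup G := { ‹Group G› with mul_comm := hcon }
  exact @IsSimpleGroup.prime_card G inst ‹_›

/-- **`|A|` odd, `Suz`** -/
theorem killO_Suz : KillO Suz := by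
  have hfin := finite_suz
  have hs : IsSimpleGroup Suz := simple
  refine Cfsg.Agent.H546.IFO.killO_cube (na_of card_Suz (by norm_num)) Cfsg.Agent.H692.CubeSuz.cube_suz_model (k := 6) out_suz ?_
  rw [card_Suz]
  norm_num

end Cfsg.Agent.H399.IF.SuzO
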